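import Groth.Agent.FibreTorLib.Ring
import Groth.Agent.ThickPCLib.Rel
import Groth.Agent.RelFlatLib.FibreStalk
import Groth.Agent.RelFlatLib.RelOpen
import Groth.Agent.RelFlatLib.Affine
import Groth.Agent.TildeRelAmpLib.Main
import Groth.Agent.TildeDerLib.Affine
import Groth.Agent.AffPushPCLib.Main
import Groth.Agent.KiehlLib.PC
import Groth.Agent.KiehlLib.Base
import Groth.Agent.LpullTildeLib.Main

/-!
# Tor amplitude over the base from a closed subscheme of the base containing all closed points
-/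

set_option autoImplicit false
set_option linter.style.haveILetI false
set_option backward.isDefEq.respectTransparency false
set_option backward.isDefEq.respectTransparency.types false
set_option maxHeartbeats 1000000

noncomputable section

universe u

open CategoryTheory CategoryTheory.Limits AlgebraicGeometry TopologicalSpace HomologicalComplex MonoidalCategory
open scoped TensorProduct
open Groth.Agent
open Groth.Agent.TwoTermLib.RelAmp (resCx)

attribute [local instance] HasDerivedCategory.standard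

namespace FibreTorLib

section Fibre

variable {X Y X' Y' : Scheme.{u}} {f : X ⟶ Y} {f' : X' ⟶ Y'} {i : X ⟶ X'} {j : Y ⟶ Y'}
  (sq : IsPullback i f f' j) [IsClosedImmersion j] [IsClosedImmersion i]

include sq in
/-- Tor amplitude at a point of a closed subscheme of the base descends to the ambient scheme. -/
theorem ampD_of_lpull [Flat f] [Flat f'] [LocallyOfFinitePresentation f'] [DCoh.HasLpull i]
    {E : DCoh.D X'} (hpc : ∀ m : ℤ, DCoh.IsPseudoCoherentD m E) {a b : ℤ} {x : X}
    (h : RelFlatLib.AmpD f a b ((DCoh.Lpull i).obj E) x) :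
    ∃ b' : ℤ, RelFlatLib.AmpD f' (a - 1) b' E (i x) := by
  obtain ⟨P, hP, ⟨eP⟩⟩ := KFlatLib.exists_good_rep E
  let φ' := (f'.stalkMap (i.base x)).hom
  let ι := BaseAmpLib.baseMap sq x
  let κ := (i.stalkMap x).hom
  let φ := (f.stalkMap x).hom
  have hι : Function.Surjective ι := ThickPCLib.surjective_baseMap sq x
  have hκ : Function.Surjective κ := ThickPCLib.stalkMap_surjective' i x
  haveI : IsLocalHom ι := IsLocalHom.of_surjective ι hι
  let J := (IsLocalRing.maximalIdeal (Y.presheaf.stalk (f.base x))).map φ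
  let ψ := Ideal.Quotient.mk J
  have hker : RingHom.ker κ ≤ (IsLocalRing.maximalIdeal (Y'.presheaf.stalk (f'.base (i.base x)))).map φ' := by
    intro z hz
    letI := φ'.toAlgebra
    letI := ι.toAlgebra
    have h1 : (1 : Y.presheaf.stalk (f.base x)) ⊗ₜ[Y'.presheaf.stalk (f'.base (i.base x))] z = 0 := by
      refine (ThickPCLib.bijective_stalkLift sq x).1 ?_
      rw [BaseAmpLib.stalkLift_tmul, map_one, one_mul, map_zero]
      exact hz
    have h2 := ThickPCLib.mem_smul_of_one_tmul _ hι _ z h1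
    rw [Ideal.smul_top_eq_map] at h2
    exact Ideal.map_mono (IsLocalRing.le_maximalIdeal (RingHom.ker_ne_top _)) h2
  have hm : (IsLocalRing.maximalIdeal (Y'.presheaf.stalk (f'.base (i.base x)))).map ι =
      IsLocalRing.maximalIdeal (Y.presheaf.stalk (f.base x)) := by
    rw [← IsLocalRing.maximalIdeal_comap ι, Ideal.map_comap_of_surjective ι hι]
  have hk : RingHom.ker (ψ.comp κ) =
      (IsLocalRing.maximalIdeal (Y'.presheaf.stalk (f'.base (i.base x)))).map φ' := by
    rw [← RingHom.comap_ker, Ideal.mk_ker]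
    show Ideal.comap κ ((IsLocalRing.maximalIdeal _).map φ) = _
    rw [← hm, Ideal.map_map, show φ.comp ι = κ.comp φ' from (ThickPCLib.stalk_comm sq x).symm,
      ← Ideal.map_map, Ideal.comap_map_of_surjective' _ hκ]
    exact sup_of_le_left hker
  have h1 := (RelFlatLib.ampD_rep f ((KFlatLib.lpullObjIso i P hP.1).symm ≪≫ (DCoh.Lpull i).mapIso eP) x).1 h
  have hfib : ∀ n, n < a → IsZero (((DRingLib.extCx (ψ.comp κ)).obj
      ((KFlatLib.stalkCx X' (i.base x)).obj P)).homology n) := fun n hn =>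
    (RelFlatLib.isZero_fibre_of_amp φ ψ (Flat.stalkMap f x) Ideal.Quotient.mk_surjective Ideal.mk_ker
      (KFlatLib.isKFlat_extend κ (KFlatLib.stalks_isKFlat hP.1 (i.base x)))
      (DRingLib.hasTorAmplitudeIn_of_iso (DerivedCategory.Q.mapIso (RelFlatLib.stalkOverPullIso i f x P)) h1)
      n (Or.inl hn)).of_iso
        ((homologyFunctor _ _ n).mapIso (TwoTermLib.RelAmp.extCompIso κ ψ rfl _).symm)
  obtain ⟨b', hb'⟩ := amp_of_fibre_below φ' (ψ.comp κ) (Flat.stalkMap f' (i.base x))
    (RelFlatLib.isEssFP_stalkMap f' (i.base x)) (Ideal.Quotient.mk_surjective.comp hκ) hk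
    (KFlatLib.stalks_isKFlat hP.1 (i.base x))
    (fun m => RelFlatLib.stalkCx_pc eP (hpc m) _) hfib
  exact ⟨b', (RelFlatLib.ampD_rep f' eP (i.base x)).2 hb'⟩

end Fibre

section Generalisation

variable {R A : Type u} [CommRing R] [CommRing A] (φ : R →+* A)

/-- The stalkwise amplitude of a tilde complex at a point. -/
theorem tilde_ampAt_iff (K : CochainComplex (ModuleCat.{u} A) ℤ) (a b : ℤ) (x : Spec (CommRingCat.of A)) :
    DerSch.HasTorAmplitudeAt (Spec.map (CommRingCat.ofHom φ)) a b
        (((tilde.functor (CommRingCat.of A)).mapHomologicalComplex (ComplexShape.up ℤ)).obj K) x ↔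
      DRing.HasTorAmplitudeIn R a b (DerivedCategory.Q.obj
        ((resCx ((KFlatLib.specStalk (R := CommRingCat.of A) x).comp φ)).obj
          ((DRingLib.extCx (KFlatLib.specStalk (R := CommRingCat.of A) x)).obj K))) := by
  let y := (Spec.map (CommRingCat.ofHom φ)).base x
  letI : Algebra R ((Spec (CommRingCat.of R)).presheaf.stalk y) := StructureSheaf.stalkAlgebra R y
  haveI : IsLocalization y.asIdeal.primeCompl ((Spec (CommRingCat.of R)).presheaf.stalk y) :=
    StructureSheaf.IsLocalization.to_stalk R y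
  rw [TildeRelAmpLib.amp_localization_iff y.asIdeal.primeCompl ((Spec.map (CommRingCat.ofHom φ)).stalkMap x).hom _
    (TildeRelAmpLib.specStalk_comp φ x)]
  let i : (DerSch.stalkCxOver (Spec.map (CommRingCat.ofHom φ)) x).obj
      (((tilde.functor (CommRingCat.of A)).mapHomologicalComplex (ComplexShape.up ℤ)).obj K) ≅
      (resCx ((Spec.map (CommRingCat.ofHom φ)).stalkMap x).hom).obj
        ((DRingLib.extCx (KFlatLib.specStalk (R := CommRingCat.of A) x)).obj K) :=
    Hom.isoOfComponents
      (fun n => (ModuleCat.restrictScalars _).mapIso ((KFlatLib.stalkTildeIso (R := CommRingCat.of A) x).app (K.X n)))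
      fun i j _ => (((ModuleCat.restrictScalars _).map_comp _ _).symm.trans
        ((congrArg _ ((KFlatLib.stalkTildeIso (R := CommRingCat.of A) x).hom.naturality (K.d i j)).symm).trans
          ((ModuleCat.restrictScalars _).map_comp _ _)))
  exact ⟨DRingLib.hasTorAmplitudeIn_of_iso (DerivedCategory.Q.mapIso i),
    DRingLib.hasTorAmplitudeIn_of_iso (DerivedCategory.Q.mapIso i.symm)⟩

/-- Tor amplitude of a tilde complex passes to generalisations. -/
theorem tilde_ampAt_of_specializes (K : CochainComplex (ModuleCat.{u} A) ℤ) (a b : ℤ)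
    {x y : Spec (CommRingCat.of A)} (h : y ⤳ x)
    (hx : DerSch.HasTorAmplitudeAt (Spec.map (CommRingCat.ofHom φ)) a b
        (((tilde.functor (CommRingCat.of A)).mapHomologicalComplex (ComplexShape.up ℤ)).obj K) x) :
    DerSch.HasTorAmplitudeAt (Spec.map (CommRingCat.ofHom φ)) a b
        (((tilde.functor (CommRingCat.of A)).mapHomologicalComplex (ComplexShape.up ℤ)).obj K) y := by
  rw [tilde_ampAt_iff] at hx ⊢
  let τ := ((Spec (CommRingCat.of A)).presheaf.stalkSpecializes h).hom
  let σx := KFlatLib.specStalk (R := CommRingCat.of A) x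
  have hτσ : τ.comp σx = KFlatLib.specStalk (R := CommRingCat.of A) y := by
    refine congrArg CommRingCat.Hom.hom (show ((Scheme.ΓSpecIso (CommRingCat.of A)).inv ≫
      (Spec (CommRingCat.of A)).presheaf.germ ⊤ x trivial) ≫ (Spec (CommRingCat.of A)).presheaf.stalkSpecializes h =
      (Scheme.ΓSpecIso (CommRingCat.of A)).inv ≫ (Spec (CommRingCat.of A)).presheaf.germ ⊤ y trivial from ?_)
    rw [Category.assoc, TopCat.Presheaf.germ_stalkSpecializes]
  have hτ : τ.Flat := by
    letI : Algebra A ((Spec (CommRingCat.of A)).presheaf.stalk x) := StructureSheaf.stalkAlgebra A x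
    haveI : IsLocalization x.asIdeal.primeCompl ((Spec (CommRingCat.of A)).presheaf.stalk x) :=
      StructureSheaf.IsLocalization.to_stalk A x
    letI : Algebra A ((Spec (CommRingCat.of A)).presheaf.stalk y) := StructureSheaf.stalkAlgebra A y
    letI := τ.toAlgebra
    haveI : IsScalarTower A ((Spec (CommRingCat.of A)).presheaf.stalk x)
        ((Spec (CommRingCat.of A)).presheaf.stalk y) :=
      IsScalarTower.of_algebraMap_eq fun r => (RingHom.congr_fun hτσ r).symm
    exact (Module.flat_iff_of_isLocalization ((Spec (CommRingCat.of A)).presheaf.stalk x)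
      x.asIdeal.primeCompl _).2 (RingHom.flat_algebraMap_iff.1 (TildeRelAmpLib.flat_specStalk y))
  have := amp_extCx φ τ hτ σx hx
  rw [hτσ] at this
  exact this

end Generalisation

/-- Tor amplitude over an affine base passes to generalisations. -/
theorem ampD_of_specializes {X S : Scheme.{u}} [IsAffine S] (f : X ⟶ S) [Flat f] {E : DCoh.D X}
    (hE : DCoh.IsQCohD E) {a b : ℤ} {x y : X} (h : y ⤳ x) (hx : RelFlatLib.AmpD f a b E x) :
    RelFlatLib.AmpD f a b E y := by
  obtain ⟨_, ⟨(U : X.Opens), hU, rfl⟩, hxU, -⟩ :=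
    X.isBasis_affineOpens.exists_subset_of_mem_open (Set.mem_univ x) isOpen_univ
  have hV : IsAffineOpen (⊤ : S.Opens) := isAffineOpen_top S
  have hUV : U ≤ f ⁻¹ᵁ ⊤ := fun z _ => trivial
  have hyU : y ∈ U := h.mem_open U.2 hxU
  obtain ⟨x₀, rfl⟩ : x ∈ Set.range hU.fromSpec := by rw [hU.range_fromSpec]; exact hxU
  obtain ⟨y₀, rfl⟩ : y ∈ Set.range hU.fromSpec := by rw [hU.range_fromSpec]; exact hyU
  have h₀ : y₀ ⤳ x₀ := hU.fromSpec.isOpenEmbedding.isInducing.specializes_iff.1 h
  rw [← RelFlatLib.ampD_chart_iff f hU hV hUV] at hx ⊢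
  haveI : PreservesFiniteLimits (tilde.functor (CommRingCat.of Γ(X, U))) :=
    HensSchLib.tilde_preservesFiniteLimits _
  obtain ⟨M, ⟨eM⟩⟩ := (TildeDerLib.isQCohD_iff (CommRingCat.of Γ(X, U)) _).1
    (AffPushPCLib.isQCohD_res hU.fromSpec hE)
  let K := DerivedCategory.Q.objPreimage M
  let e : DCoh.toD (Spec Γ(X, U)) (((tilde.functor (CommRingCat.of Γ(X, U))).mapHomologicalComplex
      (ComplexShape.up ℤ)).obj K) ≅ (PerfLib.resD hU.fromSpec).obj E :=
    ((tilde.functor (CommRingCat.of Γ(X, U))).mapDerivedCategoryFactors.app K).symm ≪≫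
      (DCoh.tildeD (CommRingCat.of Γ(X, U))).mapIso (DerivedCategory.Q.objObjPreimageIso M) ≪≫ eM
  exact (RelFlatLib.ampD_rep _ e y₀).2
    (tilde_ampAt_of_specializes (f.appLE ⊤ U hUV).hom K a b h₀ ((RelFlatLib.ampD_rep _ e x₀).1 hx))

/-- Finite tor amplitude from the fibres over a closed subscheme containing the closed points. -/
theorem loc_of_fibre {R : Type u} [CommRing R] (I : Ideal R) (hI : I ≤ Ideal.jacobson ⊥) {X : Scheme.{u}}
    (f : X ⟶ Spec (CommRingCat.of R)) [IsProper f] [Flat f] [LocallyOfFinitePresentation f]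
    [DCoh.HasLpull (pullback.fst f (Spec.map (CommRingCat.ofHom (Ideal.Quotient.mk I))))]
    (E : DCoh.D X) (hpc : ∀ m : ℤ, DCoh.IsPseudoCoherentD m E)
    (F₀ : CochainComplex (pullback f (Spec.map (CommRingCat.ofHom (Ideal.Quotient.mk I)))).Modules ℤ)
    (e₀ : DCoh.toD _ F₀ ≅ (DCoh.Lpull (pullback.fst f (Spec.map (CommRingCat.ofHom (Ideal.Quotient.mk I))))).obj E)
    (h₀ : DerSch.LocFiniteTorAmplitude (pullback.snd f (Spec.map (CommRingCat.ofHom (Ideal.Quotient.mk I)))) F₀) :
    DerSch.LocFiniteTorAmplitudeD f E := by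
  let j := Spec.map (CommRingCat.ofHom (Ideal.Quotient.mk I))
  haveI : IsClosedImmersion j := IsClosedImmersion.spec_of_surjective _ Ideal.Quotient.mk_surjective
  let i := pullback.fst f j
  let f₀ := pullback.snd f j
  have sq : IsPullback i f₀ f j := IsPullback.of_hasPullback f j
  haveI : IsClosedImmersion i := MorphismProperty.of_isPullback sq.flip ‹IsClosedImmersion j›
  haveI : Flat f₀ := MorphismProperty.of_isPullback sq ‹Flat f›
  haveI : CompactSpace X := QuasiCompact.compactSpace_of_compactSpace f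
  haveI : CompactSpace ↥(pullback f j) := i.isClosedEmbedding.compactSpace
  obtain ⟨a, b, hab⟩ := RelFlatLib.exists_amp_of_loc f₀ h₀
  obtain ⟨c, hc⟩ := KiehlLib.exists_isLE_of_isPC (hpc 0)
  intro F ⟨eF⟩ x
  refine ⟨⊤, a - 1, c, trivial, fun y _ => ?_⟩
  obtain ⟨m, hm, hym⟩ := Ideal.exists_le_maximal (f y).asIdeal (f y).isPrime.ne_top
  let p : Spec (CommRingCat.of R) := ⟨m, hm.isPrime⟩
  have hp : p ∈ closure {f y} := (PrimeSpectrum.le_iff_mem_closure (f y) p).1 hym
  obtain ⟨z, hz, hzp⟩ : p ∈ f '' closure {y} := by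
    refine closure_minimal ?_ (f.isClosedMap _ isClosed_closure) hp
    rintro _ rfl
    exact ⟨y, subset_closure rfl, rfl⟩
  obtain ⟨x₀, hx₀⟩ : z ∈ Set.range i := by
    rw [Scheme.Pullback.range_fst]
    refine ⟨⟨Ideal.map (Ideal.Quotient.mk I) m, ?_⟩, ?_⟩
    · exact Ideal.map_isPrime_of_surjective Ideal.Quotient.mk_surjective
        (by rw [Ideal.mk_ker]; exact hI.trans (sInf_le ⟨bot_le, hm⟩))
    · rw [hzp]
      refine PrimeSpectrum.ext ?_
      show Ideal.comap (Ideal.Quotient.mk I) (Ideal.map (Ideal.Quotient.mk I) m) = m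
      rw [Ideal.comap_map_of_surjective' _ Ideal.Quotient.mk_surjective, Ideal.mk_ker]
      exact sup_of_le_left (hI.trans (sInf_le ⟨bot_le, hm⟩))
  obtain ⟨b', hb'⟩ := ampD_of_lpull sq hpc ((RelFlatLib.ampD_rep f₀ e₀ x₀).2 (hab x₀))
  rw [hx₀] at hb'
  have hy := ampD_of_specializes f (KiehlLib.isQCohD_of_isPC hpc) (specializes_iff_mem_closure.2 hz) hb'
  exact (RelFlatLib.ampD_rep f eF y).1 (RelFlatLib.amp_upper hy fun n hn =>
    ((DerSch.stalkOver f y).map_isZero ((DerivedCategory.isLE_iff E c).1 hc n hn)).of_iso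
      ((Groth.Agent.DerLib.ExactHomology.homologyIso (DerSch.stalkOver f y) n).app _))

end FibreTorLib
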