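import Groth.Agent.RelFlatLib.FibreAmp
import Groth.Agent.TwoTermLib.RelAmp

/-!
# Tor amplitude over the base from the closed fibre, and along generalisations
-/

set_option autoImplicit false
set_option linter.style.haveILetI false
set_option backward.isDefEq.respectTransparency false
set_option backward.isDefEq.respectTransparency.types false
set_option maxHeartbeats 1000000

universe u

open CategoryTheory CategoryTheory.Limits HomologicalComplex MonoidalCategory
open scoped TensorProduct
open Groth.Agent
open Groth.Agent.TwoTermLib.RelAmp (resCx)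

attribute [local instance] HasDerivedCategory.standard

namespace FibreTorLib

/-- A complex of free modules which is exact modulo the maximal ideal of the base is exact. -/
theorem exact_of_mod {A B : Type u} [CommRing A] [IsLocalRing A] [CommRing B] [IsLocalRing B]
    [Algebra A B] [IsLocalHom (algebraMap A B)] [Module.Flat A B]
    (hS : CAlgX.IsEssFinitePresentation A B) (J : Ideal B)
    (hJ : J = (IsLocalRing.maximalIdeal A).map (algebraMap A B))
    {L M N : Type u} [AddCommGroup L] [Module B L] [Module.Finite B L]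
    [AddCommGroup M] [Module B M] [Module.Finite B M] [Module.Free B M] [Module A M] [IsScalarTower A B M]
    [AddCommGroup N] [Module B N] [Module.Finite B N] [Module.Free B N] [Module A N] [IsScalarTower A B N]
    (p : L →ₗ[B] M) (q : M →ₗ[B] N) (hpq : ∀ x, q (p x) = 0)
    (hex : ∀ z, q z ∈ J • (⊤ : Submodule B N) → z ∈ LinearMap.range p ⊔ J • (⊤ : Submodule B M))
    (z : M) (hz : q z = 0) : z ∈ LinearMap.range p := by
  have hle : LinearMap.range p ≤ LinearMap.ker q := by
    rintro _ ⟨x, rfl⟩
    exact hpq x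
  let u : (M ⧸ LinearMap.range p) →ₗ[B] N := (LinearMap.range p).liftQ q hle
  haveI : Module.FinitePresentation B M := Module.finitePresentation_of_projective B M
  haveI : Module.FinitePresentation B (M ⧸ LinearMap.range p) :=
    Module.finitePresentation_of_surjective
    (LinearMap.range p).mkQ (Submodule.mkQ_surjective _) (by
      rw [Submodule.ker_mkQ, LinearMap.range_eq_map]
      exact Module.Finite.fg_top.map p)
  haveI : Module.FinitePresentation B N := Module.finitePresentation_of_projective B N
  haveI : Module.Flat A N := Module.Flat.trans A B N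
  have key : ∀ x, u x ∈ J • (⊤ : Submodule B N) → x ∈ J • (⊤ : Submodule B (M ⧸ LinearMap.range p)) :=
    fun x hx => by
      obtain ⟨z, rfl⟩ := Submodule.Quotient.mk_surjective _ x
      obtain ⟨y, hy, w, hw, rfl⟩ := Submodule.mem_sup.1 (hex z hx)
      rw [Submodule.Quotient.mk_add, (Submodule.Quotient.mk_eq_zero _).2 hy, zero_add]
      have := Submodule.mem_map_of_mem (f := (LinearMap.range p).mkQ) hw
      rw [Submodule.map_smul''] at this
      exact Submodule.smul_mono le_rfl le_top this
  subst hJ
  obtain ⟨hinj, -⟩ := Groth.Agent.S2107.result hS u key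
  refine (Submodule.Quotient.mk_eq_zero _).1 (hinj ?_)
  rw [map_zero]
  exact hz

variable {A B C : Type u} [CommRing A] [IsLocalRing A] [CommRing B] [IsLocalRing B] [CommRing C]
  (φ : A →+* B) (ψ : B →+* C) [IsLocalHom φ]

/-- Tor amplitude over the base from boundedness below of the closed fibre alone. -/
theorem amp_of_fibre_below (hφ : φ.Flat)
    (hS : letI := φ.toAlgebra; CAlgX.IsEssFinitePresentation A B) (hs : Function.Surjective ψ)
    (hk : RingHom.ker ψ = (IsLocalRing.maximalIdeal A).map φ)
    {P : CochainComplex (ModuleCat.{u} B) ℤ} (hP : DRing.IsKFlat B P)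
    (hpc : ∀ m, DRing.IsPseudoCoherent B m (DerivedCategory.Q.obj P)) {a₁ : ℤ}
    (h₁ : ∀ i, i < a₁ → IsZero (((DRingLib.extCx ψ).obj P).homology i)) :
    ∃ b : ℤ, DRing.HasTorAmplitudeIn A (a₁ - 1) b (DerivedCategory.Q.obj ((resCx φ).obj P)) := by
  obtain ⟨E, b, hEb, hEf, ⟨eE⟩⟩ := DRingLib.isPseudoCoherent'_of_forall hpc
  haveI := fun i => (hEf i).1
  haveI := fun i => (hEf i).2
  haveI := DRingLib.isKProjective_of_free E b hEb (fun i => (hEf i).2)
  obtain ⟨g, hg⟩ := DRingLib.exists_qis_of_iso E P eE
  let a := a₁ - 1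
  letI := φ.toAlgebra
  haveI : IsLocalHom (algebraMap A B) := ‹IsLocalHom φ›
  haveI : Module.Flat A B := hφ
  letI : ∀ M : ModuleCat.{u} B, Module A M := fun M => Module.compHom M φ
  haveI : ∀ M : ModuleCat.{u} B, IsScalarTower A B M := fun M =>
    IsScalarTower.of_algebraMap_smul fun _ _ => rfl
  haveI : QuasiIso ((DRingLib.extCx ψ).map g) :=
    KFlatLib.quasiIso_extend ψ (DRingLib.isKFlat_of_free E b hEb (fun i => (hEf i).2)) hP g
  have hC : ∀ i, i < a₁ → IsZero (((DRingLib.extCx ψ).obj E).homology i) := fun i hi => by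
    have : IsIso (homologyMap ((DRingLib.extCx ψ).map g) i) :=
      (quasiIsoAt_iff_isIso_homologyMap _ _).mp (QuasiIso.quasiIsoAt i)
    exact (h₁ i hi).of_iso (asIso (homologyMap ((DRingLib.extCx ψ).map g) i))
  have hH : ∀ i, i < a₁ → IsZero (E.homology i) := fun i hi => by
    have hex : (E.sc' (i - 1) i (i + 1)).Exact := by
      rw [ShortComplex.moduleCat_exact_iff]
      intro z hz
      exact exact_of_mod hS (RingHom.ker ψ) hk (E.d (i - 1) i).hom (E.d i (i + 1)).hom
        (fun x => congrArg (fun q => q.hom x) (E.d_comp_d (i - 1) i (i + 1)))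
        (RelFlatLib.fibre_exact ψ E hs (hC i hi)) z hz
    exact (exactAt_iff_isZero_homology E i).1 ((exactAt_iff' E (i - 1) i (i + 1) (by simp) (by simp)).2 hex)
  haveI : E.IsGE a := (CochainComplex.isGE_iff E a).2 fun i hi =>
    (exactAt_iff_isZero_homology _ i).2 (hH i (by omega))
  haveI : QuasiIso (E.πTruncGE a) := (CochainComplex.quasiIso_πTruncGE_iff E a).mpr inferInstance
  have hfree : ∀ i, Module.Flat A (E.X i) := fun i => Module.Flat.trans A B (E.X i)
  let M := E.X a ⧸ LinearMap.range (E.d (a - 1) a).hom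
  haveI : Module.Flat A M := RelFlatLib.flat_coker_of_mod hS (RingHom.ker ψ) hk (E.d (a - 1) a).hom
    (E.d a (a + 1)).hom (fun x => congrArg (fun q => q.hom x) (E.d_comp_d (a - 1) a (a + 1)))
    (RelFlatLib.fibre_exact ψ E hs (hC a (by omega)))
  let F := E.truncGE a
  refine ⟨b, (resCx φ).obj F, fun i hi => (ModuleCat.restrictScalars.{u} φ).map_isZero
    (DRingLib.vanishesOutside_truncGE hEb a i hi), fun i => ?_, ⟨?_⟩⟩
  · show Module.Flat A (F.X i)
    rcases lt_trichotomy i a with hi | hi | hi
    · haveI := ModuleCat.subsingleton_of_isZero (CochainComplex.isZero_of_isStrictlyGE F a i hi)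
      infer_instance
    · subst hi
      exact Module.Flat.of_linearEquiv ((DRingLib.truncGEXCoker E a).toLinearEquiv.restrictScalars A)
    · haveI := hfree i
      exact Module.Flat.of_linearEquiv ((E.truncGEXIso a i hi).toLinearEquiv.restrictScalars A)
  · let Φ := ModuleCat.restrictScalars.{u} φ
    haveI : QuasiIso ((resCx φ).map (E.πTruncGE a)) :=
      inferInstanceAs (QuasiIso ((Φ.mapHomologicalComplex (ComplexShape.up ℤ)).map (E.πTruncGE a)))
    haveI : QuasiIso ((resCx φ).map g) :=
      inferInstanceAs (QuasiIso ((Φ.mapHomologicalComplex (ComplexShape.up ℤ)).map g))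
    exact (asIso (DerivedCategory.Q.map ((resCx φ).map (E.πTruncGE a)))).symm ≪≫
      asIso (DerivedCategory.Q.map ((resCx φ).map g))

omit [IsLocalRing A] [IsLocalRing B] [IsLocalHom φ] in
/-- Tor amplitude over the base passes to flat base changes of the algebra. -/
theorem amp_extCx {R : Type u} [CommRing R] (θ : R →+* A) (τ : B →+* C) (hτ : τ.Flat) (σ : A →+* B)
    {K : CochainComplex (ModuleCat.{u} A) ℤ} {a b : ℤ}
    (h : DRing.HasTorAmplitudeIn R a b
      (DerivedCategory.Q.obj ((resCx (σ.comp θ)).obj ((DRingLib.extCx σ).obj K)))) :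
    DRing.HasTorAmplitudeIn R a b
      (DerivedCategory.Q.obj ((resCx ((τ.comp σ).comp θ)).obj ((DRingLib.extCx (τ.comp σ)).obj K))) := by
  rw [TwoTermLib.RelAmp.hasTorAmplitudeIn_res_iff] at h ⊢
  intro i hi N
  let Q := (projectiveResolution N).cochainComplex
  let c : ((DRingLib.extCx (τ.comp σ)).obj K ⊗ (DRingLib.extCx ((τ.comp σ).comp θ)).obj Q :
      CochainComplex (ModuleCat.{u} C) ℤ) ≅
      (DRingLib.extCx τ).obj ((DRingLib.extCx σ).obj K ⊗ (DRingLib.extCx (σ.comp θ)).obj Q) :=
    MonoidalCategory.tensorIso (TwoTermLib.RelAmp.extCompIso σ τ rfl K).symm (Iso.refl _) ≪≫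
      TwoTermLib.RelAmp.baseChangeIso (σ.comp θ) τ (RingHom.comp_assoc θ σ τ) _ Q
  obtain ⟨e⟩ := DRingLib.exists_homology_extCx_iso τ hτ
    ((DRingLib.extCx σ).obj K ⊗ (DRingLib.extCx (σ.comp θ)).obj Q) i
  exact ((ModuleCat.extendScalars.{u, u, u} τ).map_isZero (h i hi N)).of_iso
    ((homologyFunctor _ _ i).mapIso c ≪≫ e)

end FibreTorLib
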